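import Cfsg.Agent.S0989
import Cfsg.Agent.S0990
import Cfsg.Agent.S0991
import Mathlib

/-!
Divisibility constraints on the order of a finite simple group.
-/

set_option autoImplicit false

namespace Cfsg.Lib.SimpleOrder

variable {G : Type*} [Group G] [Finite G] [IsSimpleGroup G]

theorem not_comm_of_not_prime (h : ¬ (Nat.card G).Prime) : ¬ IsMulCommutative G := by
  intro hc
  haveI := hc
  letI : CommGroup G := { ‹Group G› with mul_comm := fun a b => mul_comm' a b }
  exact h (IsSimpleGroup.prime_card (α := G))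

theorem two_mul_card_dvd (hG : ¬ IsMulCommutative G) (H : Subgroup G) (hH : H ≠ ⊤) :
    2 * Nat.card G ∣ H.index.factorial := by
  obtain ⟨f, hf⟩ := Cfsg.Agent.S0991.result hG H hH
  have h := Subgroup.card_dvd_of_injective f hf
  have hne : 2 ≤ H.index := by
    have := H.index_ne_zero_of_finite
    have : H.index ≠ 1 := fun e => hH (Subgroup.index_eq_one.mp e)
    omega
  haveI : Nontrivial (Fin H.index) := Fintype.one_lt_card_iff_nontrivial.mp (by rw [Fintype.card_fin]; omega)
  have h2 := two_mul_card_alternatingGroup (α := Fin H.index)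
  rw [Fintype.card_perm, Fintype.card_fin, ← Nat.card_eq_fintype_card] at h2
  exact h2 ▸ Nat.mul_dvd_mul_left 2 h

theorem normalizer_ne_top {p : ℕ} [Fact p.Prime] (P : Sylow p G) (h1 : Nat.card (Sylow p G) ≠ 1) :
    Subgroup.normalizer ((P : Subgroup G) : Set G) ≠ ⊤ := by
  intro h
  have e : Nat.card (Sylow p G) = (Subgroup.normalizer ((P : Subgroup G) : Set G)).index :=
    P.card_eq_index_normalizer
  rw [h, Subgroup.index_top] at e
  exact h1 e

theorem card_sylow_ne_one (hG : ¬ IsMulCommutative G) (p : ℕ) [Fact p.Prime] (hd : p ∣ Nat.card G) :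
    Nat.card (Sylow p G) ≠ 1 := by
  intro h
  obtain ⟨P⟩ : Nonempty (Sylow p G) := inferInstance
  haveI := (Nat.card_eq_one_iff_unique.mp h).1
  haveI hn : (P : Subgroup G).Normal := P.normal_of_subsingleton
  rcases IsSimpleGroup.eq_bot_or_eq_top_of_normal (P : Subgroup G) hn with e | e
  · exact P.ne_bot_of_dvd_card hd e
  · refine hG ⟨⟨fun a b => ?_⟩⟩
    have hP : IsPGroup p G := fun x => by
      obtain ⟨j, hj⟩ := P.2 ⟨x, e ▸ Subgroup.mem_top x⟩
      exact ⟨j, by simpa using congrArg Subtype.val hj⟩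
    haveI : Nontrivial G := IsSimpleGroup.toNontrivial
    haveI := hP.center_nontrivial
    rcases IsSimpleGroup.eq_bot_or_eq_top_of_normal (Subgroup.center G) inferInstance with hz | hz
    · exact absurd hz ((Subgroup.nontrivial_iff_ne_bot _).mp inferInstance)
    · exact (Subgroup.mem_center_iff.mp (hz ▸ Subgroup.mem_top b : b ∈ Subgroup.center G) a)

/-- A simple group with `p + 1` Sylow `p`-subgroups has order dividing `(p+1) p (p-1) / 2`. -/
theorem card_dvd_of_sylow_succ (hG : ¬ IsMulCommutative G) {p : ℕ} [hp : Fact p.Prime] (hp2 : p ≠ 2)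
    (h : Nat.card (Sylow p G) = p + 1) : 2 * Nat.card G ∣ (p + 1) * (p * (p - 1)) := by
  classical
  obtain ⟨P⟩ : Nonempty (Sylow p G) := inferInstance
  set N := Subgroup.normalizer ((P : Subgroup G) : Set G)
  have hidx : N.index = p + 1 := P.card_eq_index_normalizer.symm.trans h
  have hNtop : N ≠ ⊤ := normalizer_ne_top P (by rw [h]; have := hp.out.pos; omega)
  obtain ⟨f₀, hf₀⟩ := Cfsg.Agent.S0991.result hG N hNtop
  let f : G →* Equiv.Perm (Fin N.index) := (alternatingGroup (Fin N.index)).subtype.comp f₀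
  have hf : Function.Injective f := Subtype.val_injective.comp hf₀
  set Q : Subgroup (Equiv.Perm (Fin N.index)) := (P : Subgroup G).map f
  have hcardP : Fintype.card (Fin N.index) = p ∨ Fintype.card (Fin N.index) = p + 1 :=
    Or.inr (by rw [Fintype.card_fin, hidx])
  obtain ⟨S, hS⟩ := (P.isPGroup'.map f).exists_le_sylow
  have hScard : Nat.card (S : Subgroup (Equiv.Perm (Fin N.index))) ∣ p := by
    rw [S.card_eq_multiplicity, Nat.card_eq_fintype_card, Fintype.card_perm, Fintype.card_fin, hidx]
    have h2 : (p + 1).factorial.factorization p ≤ 1 := by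
      rw [Nat.factorial_succ, Nat.factorization_mul (by omega) (Nat.factorial_pos p).ne', Finsupp.coe_add,
        Pi.add_apply, Nat.factorization_eq_zero_of_not_dvd (fun hd => hp.out.not_dvd_one
          ((Nat.dvd_add_right dvd_rfl).mp hd)), zero_add,
        ← Nat.mul_factorial_pred hp.out.ne_zero, Nat.factorization_mul hp.out.ne_zero
          (Nat.factorial_pos _).ne', Finsupp.coe_add, Pi.add_apply, hp.out.factorization_self,
        Nat.factorization_eq_zero_of_not_dvd (fun hd => by
          have := (Nat.Prime.dvd_factorial hp.out).mp hd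
          have := hp.out.pos
          omega)]
    exact (pow_dvd_pow p h2).trans (by rw [pow_one])
  have hQeq : Q = (S : Subgroup (Equiv.Perm (Fin N.index))) := by
    refine Subgroup.eq_of_le_of_card_ge hS ?_
    have hne : (P : Subgroup G) ≠ ⊥ := by
      intro e
      apply hNtop
      change Subgroup.normalizer ((P : Subgroup G) : Set G) = ⊤
      rw [Subgroup.normalizer_eq_top_iff, e]
      infer_instance
    have h1 : Nat.card Q = Nat.card (P : Subgroup G) :=
      (Nat.card_congr ((P : Subgroup G).equivMapOfInjective f hf).toEquiv).symm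
    obtain ⟨j, hj⟩ := IsPGroup.iff_card.mp P.isPGroup'
    rw [h1, hj]
    have hj0 : j ≠ 0 := fun e => hne (Subgroup.card_eq_one.mp (by rw [hj, e, pow_zero]))
    exact (Nat.le_of_dvd hp.out.pos hScard).trans (Nat.le_self_pow hj0 p)
  have hSA : (S : Subgroup (Equiv.Perm (Fin N.index))) ≤ alternatingGroup (Fin N.index) :=
    (Cfsg.Agent.S0990.result (by rw [Fintype.card_fin, hidx]; have := hp.out.pos; omega) p hp2 S).1
  have hA := (Cfsg.Agent.S0990.result (by rw [Fintype.card_fin, hidx]; have := hp.out.pos; omega) p hp2 S).2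
  rw [Cfsg.Agent.S0989.result p hcardP S] at hA
  have hNN : N.map f₀ ≤ Subgroup.normalizer
      ((((S : Subgroup (Equiv.Perm (Fin N.index))).subgroupOf (alternatingGroup (Fin N.index))) :
        Subgroup (alternatingGroup (Fin N.index))) : Set (alternatingGroup (Fin N.index))) := by
    rintro _ ⟨n, hn, rfl⟩
    rw [← Subgroup.subgroupOf_normalizer_eq hSA, Subgroup.mem_subgroupOf]
    rw [← hQeq]
    exact Subgroup.le_normalizer_map f ⟨n, hn, rfl⟩
  have hd : Nat.card N ∣ Nat.card (Subgroup.normalizer
      ((((S : Subgroup (Equiv.Perm (Fin N.index))).subgroupOf (alternatingGroup (Fin N.index))) :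
        Subgroup (alternatingGroup (Fin N.index))) : Set (alternatingGroup (Fin N.index)))) := by
    refine dvd_trans ?_ (Subgroup.card_dvd_of_le hNN)
    rw [← Nat.card_congr (N.equivMapOfInjective f₀ hf₀).toEquiv]
  rw [← N.card_mul_index, hidx, ← hA]
  calc 2 * (Nat.card N * (p + 1)) = (p + 1) * (2 * Nat.card N) := by ring
    _ ∣ _ := Nat.mul_dvd_mul_left _ (Nat.mul_dvd_mul_left 2 hd)

/-- The possible numbers of Sylow `p`-subgroups. -/
theorem card_sylow_mem (hG : ¬ IsMulCommutative G) {p a m : ℕ} [hp : Fact p.Prime]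
    (h : Nat.card G = p ^ a * m) (hm : ¬ p ∣ m) (ha : a ≠ 0) :
    Nat.card (Sylow p G) ∈ (Nat.divisors m).filter (fun n => n % p = 1 ∧ n ≠ 1) := by
  have hm0 : m ≠ 0 := fun e => hm (e ▸ dvd_zero p)
  obtain ⟨P⟩ : Nonempty (Sylow p G) := inferInstance
  have hidx : (P : Subgroup G).index = m := by
    have h1 : Nat.card (P : Subgroup G) = p ^ a := by
      rw [P.card_eq_multiplicity, h, Nat.factorization_mul (pow_pos hp.out.pos a).ne' hm0,
        hp.out.factorization_pow, Finsupp.coe_add, Pi.add_apply, Finsupp.single_eq_same,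
        Nat.factorization_eq_zero_of_not_dvd hm, add_zero]
    have h2 := (P : Subgroup G).card_mul_index
    rw [h1, h] at h2
    exact Nat.eq_of_mul_eq_mul_left (pow_pos hp.out.pos a) h2
  refine Finset.mem_filter.mpr ⟨Nat.mem_divisors.mpr ⟨hidx ▸ P.card_dvd_index, hm0⟩, ?_, ?_⟩
  · have h1 := card_sylow_modEq_one p G
    rwa [Nat.ModEq, Nat.one_mod_eq_one.mpr hp.out.ne_one] at h1
  · exact card_sylow_ne_one hG p (h ▸ (dvd_pow_self p ha).mul_right m)

end Cfsg.Lib.SimpleOrder
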